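import Cfsg.Agent.H334.Pw.CoOne
import Cfsg.Agent.H334.O8.Seven
import Cfsg.Agent.H334.Ore.PwRows
import Cfsg.Agent.H643.PwCnt

/-!
# `Co1`: the row of S2465 (helper334)

* `all_five` : every element is a product of two elements of order prime to 5 (the case division of `InputsP (Pr 5)`);
* `pw_co1` : **the row**.
-/

set_option autoImplicit false

open Subgroup

namespace Cfsg.Agent.H334.Pw.CoOne

open Cfsg Cfsg.Agent.KFacts.Co1D4
open Cfsg.Agent.H630.Ore.Co1
open Cfsg.Agent.LThreeMB (fr)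
open Cfsg.Agent.H78.Pw
open Cfsg.Agent.H6.ORE.CoOne (QM zM isConj_z)
open Cfsg.Agent.MonsterU.CoFrameF (F toM24 toM24_surjective toM24_eq_one_iff)
open Cfsg.Agent.CoOneType.CoOneE (E pr centralizer_dodecad_le)
open Cfsg.Agent.CoOneType.ClosingFacts (isConj_octad)
open Cfsg.Spor (Co1)

/-! ### the involution centralizers -/

/-- a product of two elements of order `7 * 2 ^ k` -/
def P7 {G : Type*} [Group G] (g : G) : Prop :=
  ∃ a b : G, g = a * b ∧ (∃ k, a ^ (7 * 2 ^ k) = 1) ∧ ∃ k, b ^ (7 * 2 ^ k) = 1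

theorem P7.of_conj {G : Type*} [Group G] {g k : G} (h : P7 (k * g * k⁻¹)) : P7 g := by
  obtain ⟨a, b, e, ⟨i, ha⟩, j, hb⟩ := h
  refine ⟨k⁻¹ * a * k⁻¹⁻¹, k⁻¹ * b * k⁻¹⁻¹, ?_, ⟨i, ?_⟩, j, ?_⟩
  · calc g = k⁻¹ * (k * g * k⁻¹) * k := by group
      _ = _ := by rw [e]; group
  · rw [conj_pow, ha, mul_one, mul_inv_cancel]
  · rw [conj_pow, hb, mul_one, mul_inv_cancel]

theorem P7.pr {G : Type*} [Group G] {g : G} (h : P7 g) {n : ℕ} (h7 : Nat.Coprime 7 n) (h2 : Nat.Coprime 2 n) : Pr n g := by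
  obtain ⟨a, b, e, ⟨i, ha⟩, j, hb⟩ := h
  exact ⟨a, b, e, Nat.Coprime.of_dvd_left (orderOf_dvd_of_pow_eq_one ha) (h7.mul_left (h2.pow_left i)),
    Nat.Coprime.of_dvd_left (orderOf_dvd_of_pow_eq_one hb) (h7.mul_left (h2.pow_left j))⟩

theorem seven_cases {g : Co1} (h : InA g) : P7 g ∨ ∃ i : ℕ, g ^ 2 ^ i = 1 := by
  have hfin : Finite Co1 := H812.CoFiveData.finite_co1
  obtain ⟨u, ⟨c, hc, hu⟩, hg⟩ := h
  have h2 : IsConj u zM := hu.symm.trans ((isConj_octad hc H812.CoFiveData.wt_c0).trans isConj_z)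
  obtain ⟨k, hk⟩ := isConj_iff.1 h2
  have h3 : (k * g * k⁻¹) * zM = zM * (k * g * k⁻¹) := by
    rw [← hk]
    calc k * g * k⁻¹ * (k * u * k⁻¹) = k * (g * u) * k⁻¹ := by group
      _ = k * u * k⁻¹ * (k * g * k⁻¹) := by rw [hg]; group
  by_cases hQ : k * g * k⁻¹ ∈ QM
  · right
    have hpg : IsPGroup 2 QM := Cfsg.Agent.LargeExtra.Base.isPGroup H813.CoLarge.large
    obtain ⟨i, hi⟩ := hpg ⟨_, hQ⟩
    have hi' : (k * g * k⁻¹) ^ 2 ^ i = 1 := congrArg Subtype.val hi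
    refine ⟨i, ?_⟩
    rw [conj_pow] at hi'
    have h5 := congrArg (fun x => k⁻¹ * x * k) hi'
    simpa [mul_assoc] using h5
  · left
    obtain ⟨L, hL⟩ := H813.CoLarge.exists_L
    obtain ⟨a, b, e, ⟨i, ha⟩, j, hb⟩ := Cfsg.Agent.H334.O8.prod_seven H813.CoLarge.large L hL H813.CoLarge.perfect
      H813.CoLarge.card_Q' H813.CoLarge.card_le h3 hQ
    exact P7.of_conj ⟨a, b, e, ⟨i, congrArg Subtype.val ha⟩, j, congrArg Subtype.val hb⟩

variable {n : ℕ}

theorem prn_inA (h7 : Nat.Coprime 7 n) (h2 : Nat.Coprime 2 n) {g : Co1} (h : InA g) : Pr n g := by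
  rcases seven_cases h with h | ⟨i, hi⟩
  · exact h.pr h7 h2
  · exact Pr.of_coprime (Nat.Coprime.of_dvd_left (orderOf_dvd_of_pow_eq_one hi) (h2.pow_left i))

/-- the elements of `F = 2^11 : M24` -/
theorem prn_F (h2 : Nat.Coprime 2 n) (hM : All n Cfsg.M24) {g : Co1} (hg : g ∈ F) : Pr n g := by
  obtain ⟨a, b, e, ha, hb⟩ := hM (toM24 ⟨g, hg⟩)
  obtain ⟨a', rfl⟩ := toM24_surjective a
  have key : ∀ f : F, (orderOf (toM24 f)).Coprime n → (orderOf f).Coprime n := by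
    intro f hf
    have h1 : f ^ orderOf (toM24 f) ∈ (F.subgroupOf F : Subgroup F) := by rw [Subgroup.mem_subgroupOf]; exact SetLike.coe_mem _
    have h3 : toM24 (f ^ orderOf (toM24 f)) = 1 := by rw [map_pow, pow_orderOf_eq_one]
    rw [toM24_eq_one_iff] at h3
    have h4 := Cfsg.Agent.H854.Ore.CoOne.ext.sq _ h3
    have h5 : f ^ (orderOf (toM24 f) * 2) = 1 := by
      rw [pow_mul, pow_two]
      exact Subtype.ext h4
    exact Nat.Coprime.of_dvd_left (orderOf_dvd_of_pow_eq_one h5) (hf.mul_left h2)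
  have h : Pr n (⟨g, hg⟩ : F) := by
    refine ⟨a', a'⁻¹ * ⟨g, hg⟩, (mul_inv_cancel_left _ _).symm, key _ ha, key _ ?_⟩
    rw [map_mul, map_inv, e, inv_mul_cancel_left]
    exact hb
  exact h.of_sub

theorem prn_isD (h2 : Nat.Coprime 2 n) (hM : All n Cfsg.M24) {g u : Co1} (h : IsD u) (hg : g * u = u * g) : Pr n g := by
  obtain ⟨d, hd, hu⟩ := h
  obtain ⟨h, hh⟩ := isConj_iff.1 hu.symm
  refine Pr.of_conj (x := h) (prn_F h2 hM (centralizer_dodecad_le d hd ?_))
  rw [mem_centralizer_singleton_iff]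
  have hh' : h * u * h⁻¹ = pr (Cfsg.Agent.SporadicA.Co0Mono.signCo0 d) := hh
  rw [← hh']
  calc h * g * h⁻¹ * (h * u * h⁻¹) = h * (g * u) * h⁻¹ := by group
    _ = h * (u * g) * h⁻¹ := by rw [hg]
    _ = _ := by group

theorem prn_of_inv (h7 : Nat.Coprime 7 n) (h2 : Nat.Coprime 2 n) (hM : All n Cfsg.M24) {g : Co1}
    (h : ∃ t : Co1, orderOf t = 2 ∧ t * g = g * t ∧ ¬ IsConj TwoB.w t) : Pr n g := by
  obtain ⟨t, ht, htg, hn⟩ := h
  have htt : t * t = 1 := by rw [← pow_two, ← ht, pow_orderOf_eq_one]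
  have ht1 : t ≠ 1 := by
    rintro rfl
    rw [orderOf_one] at ht
    omega
  rcases inv_cases htt ht1 with h | h | h
  · exact prn_inA h7 h2 ⟨t, h, htg.symm⟩
  · exact prn_isD h2 hM h htg.symm
  · exact absurd h hn

/-! ### elements of order five -/

/-- the elements of class 5A -/
theorem inA_five {s : Co1} (hs : orderOf s = 5) (hf : fr s = 1) : InA s := by
  have h1 : IsConj s H812.CoFiveData.p1 :=
    CoFive.Ranks.isConj_of_fr hs H812.CoFiveData.order_p1 (by rw [hf, H812.CoFiveData.fr_p1])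
  obtain ⟨k, hk⟩ := isConj_iff.1 h1
  apply InA.of_conj (k := k)
  rw [hk]
  exact ⟨H812.CoFiveData.z, ⟨_, H812.CoFiveData.wt_c0, IsConj.refl _⟩, H812.CoFiveData.z_p1⟩

theorem five_inputs (hM : All 5 Cfsg.M24) : InputsP (Pr 5 : Co1 → Prop) where
  inA _ h _ := prn_inA (by norm_num) (by norm_num) h
  isD _ _ h hg := prn_isD (by norm_num) hM h hg
  two g h := by
    obtain ⟨i, hi⟩ := h
    exact Pr.of_coprime (Nat.Coprime.of_dvd_left (orderOf_dvd_of_pow_eq_one hi)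
      ((show Nat.Coprime 2 5 by norm_num).pow_left i))
  prime s h := by
    rcases h with h | h
    · exact Pr.of_coprime (by rw [h]; norm_num)
    · rcases CoFive.Ranks.ranks s h with hf | hf | hf
      · exact prn_inA (by norm_num) (by norm_num) (inA_five h hf)
      · exact (H868.Ore.Co1.fiveC h hf (mem_zpowers s)).elim (prn_of_inv (by norm_num) (by norm_num) hM) fun h =>
          pr_small (by norm_num) (le_trans h (by norm_num))
      · exact pr_small (by norm_num) (H8.Ore.CoOneB.bound_prime (Or.inl ⟨h, hf⟩))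
  fiveA _ _ hy hf hyg hg := pr_small (by norm_num) (H8.Ore.CoOneB.bound_5A hy hf hyg hg)
  fiveB _ _ hy hf hyg _ := pr_small (by norm_num) (bd_of_le hyg (H8.Ore.CoOneB.bound_prime (Or.inl ⟨hy, hf⟩)))
  fiveC _ _ hy hf hyg _ := (H868.Ore.Co1.fiveC hy hf hyg).elim (prn_of_inv (by norm_num) (by norm_num) hM) fun h =>
    pr_small (by norm_num) (le_trans h (by norm_num))
  big _ _ h hyg := pr_small (by norm_num) (bd_of_le hyg (H8.Ore.CoOneB.bound_prime (Or.inr h)))
  nine _ h9 := (H868.Ore.Co1.nine h9).elim (prn_of_inv (by norm_num) (by norm_num) hM) fun h =>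
    pr_small (by norm_num) (le_trans h (by norm_num))
  eight _ _ hs hf hts ht1 ht := by
    obtain ⟨k, hk⟩ := ht
    exact pr_small (by norm_num) (le_trans (H518.Ore.CoOneD.card_le hs hf hk ht1 hts) (by norm_num))

theorem all_five : All 5 Co1 :=
  (five_inputs ((Cfsg.Agent.H334.Ore.pw_m24 (S := Cfsg.M24) ⟨MulEquiv.refl _⟩).2 5 (by norm_num) (by norm_num))).all

/-! ### the other primes -/

theorem all_seven : All 7 Co1 := by
  have := LThree.fin_co1
  intro g
  by_cases h : 7 ∣ orderOf g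
  · obtain ⟨y, hyg, hy⟩ := exists_pow (by norm_num) h
    exact pr_small (by norm_num) (bd_of_le hyg (H8.Ore.CoOneB.bound_prime (Or.inr (Or.inl hy))))
  · exact Pr.of_coprime (((Nat.Prime.coprime_iff_not_dvd (by norm_num)).2 h).symm)

theorem all_p {p : ℕ} (hp : p.Prime) (h5 : 5 ≤ p) : All p Co1 := by
  have := LThree.fin_co1
  have : IsSimpleGroup Co1 := Cfsg.Agent.H133.Ore.Co1.simple
  by_cases hd : p ∣ Nat.card Co1
  · rcases prime_cases hp hd with rfl | rfl | rfl | rfl | rfl | rfl | rfl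
    · omega
    · omega
    · exact all_five
    · exact all_seven
    all_goals
      refine H643.PwCnt.all_of_not_sq_dvd Cfsg.Agent.H133.Ore.Co1.not_comm hp ?_
      rw [card_co1]
      norm_num
  · intro g
    refine Pr.of_coprime (((Nat.Prime.coprime_iff_not_dvd hp).2 fun h => hd ?_).symm)
    exact h.trans (orderOf_dvd_natCard g)

/-- **the row `Co1` of S2465** -/
theorem pw_co1 {S : Type*} [Group S] (h : Spor.IsoCo1 S) : Pw S := by
  obtain ⟨e⟩ := h
  exact ⟨all_six.congr e.symm, fun p hp h5 => (all_p hp h5).congr e.symm⟩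

end Cfsg.Agent.H334.Pw.CoOne
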