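import Cfsg.Agent.H590.Ore.CoOneSieve
import Cfsg.Agent.H78.Pw.Base

/-!
# `Co1`: the sieve in product form (helper334; after helper590's `isC`)
-/

set_option autoImplicit false

namespace Cfsg.Agent.H334.Pw.CoOne

open Module Cfsg Cfsg.Agent.H590.Ore.CoOneDeg
open Cfsg.Agent.H78.Pw

open Cfsg.Agent.Characters.Core in
open scoped ComplexConjugate in
/-- **T1 for `Co1`, product form**: the elements with `|C(g)| ≤ 38726` are products of two elements of order 23. -/
theorem prd {g : Spor.Co1} (hg : Nat.card (Subgroup.centralizer ({g} : Set Spor.Co1)) ≤ 38726) :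
    ∃ x a b : Spor.Co1, orderOf x = 23 ∧ a * x * a⁻¹ * (b * x⁻¹ * b⁻¹) = g := by
  have := Cfsg.Agent.H133.Ore.Co1.simple
  have := Cfsg.Agent.H133.Ore.Co1.fin
  have hfi : Finite (IrrCharacter Spor.Co1) := Cfsg.Agent.Characters.Core.finite_irr
  have := Fintype.ofFinite (IrrCharacter Spor.Co1)
  have : Fact (Nat.Prime 23) := ⟨by norm_num⟩
  have h1 : Nat.card (Subgroup.centralizer ({g} : Set Spor.Co1)) ≤ 38725 := by
    have h2 : Nat.card (Subgroup.centralizer ({g} : Set Spor.Co1)) ∣ 4157776806543360000 := by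
      rw [← Cfsg.Agent.H133.Ore.Co1.card]
      exact Subgroup.card_subgroup_dvd_card _
    by_contra hcon
    have h3 : Nat.card (Subgroup.centralizer ({g} : Set Spor.Co1)) = 38726 := by omega
    rw [h3] at h2
    exact absurd h2 (by norm_num)
  obtain ⟨x, hx⟩ := Cfsg.Agent.H133.Ore.exists_order Cfsg.Agent.H133.Ore.Co1.card (p := 23) (by norm_num) (by norm_num)
  have hcx := Cfsg.Agent.H823.Rec.Co1Facts.sc x hx
  have hpg : IsPGroup 23 (Subgroup.zpowers x) := IsPGroup.of_card (n := 1) (by rw [Nat.card_zpowers, hx, pow_one])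
  obtain ⟨P, hxP⟩ := hpg.exists_le_sylow
  have hP : Nat.card P = 23 := SmallSimple.PrimeLocal.card_of_not_sq_dvd (by rw [Cfsg.Agent.H133.Ore.Co1.card]; norm_num)
    (by rw [Cfsg.Agent.H133.Ore.Co1.card]; norm_num) P
  have hPx : (P : Subgroup Spor.Co1) = Subgroup.zpowers x := by
    have h3 : Nat.card (Subgroup.zpowers x) = Nat.card (P : Subgroup Spor.Co1) := by
      rw [Nat.card_zpowers, hx]; exact hP.symm
    exact (Subgroup.eq_of_le_of_card_ge hxP h3.ge).symm
  have hxmem : x ∈ P := by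
    show x ∈ (P : Subgroup Spor.Co1)
    rw [hPx]; exact Subgroup.mem_zpowers x
  have hx1 : x ≠ 1 := by
    rintro rfl
    rw [orderOf_one] at hx
    exact absurd hx (by norm_num)
  have he := Cfsg.Agent.H590.Ore.Exact.relIndex_eq (p := 23) (k := 1) (e := 11) Cfsg.Agent.H133.Ore.Co1.not_comm
    Cfsg.Agent.H133.Ore.Co1.card P hx hPx (by rw [hcx]) (by norm_num) (by norm_num) (by decide +kernel)
  have hCx : Subgroup.centralizer ((P : Subgroup Spor.Co1) : Set Spor.Co1) = Subgroup.centralizer ({x} : Set Spor.Co1) := by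
    rw [hPx, SmallSimple.SelfCentPrime.centralizer_zpowers]
  have hCP : Subgroup.centralizer ((P : Subgroup Spor.Co1) : Set Spor.Co1) = (P : Subgroup Spor.Co1) := by
    symm
    apply Subgroup.eq_of_le_of_card_ge (Cfsg.Agent.SmallSimple.ThetaSetup.le_centralizer hP)
    have h3 : Nat.card (Subgroup.centralizer ((P : Subgroup Spor.Co1) : Set Spor.Co1)) = 23 := by rw [hCx, hcx]
    exact (h3.trans hP.symm).le
  have hnr : ¬ IsConj x x⁻¹ := by
    refine not_real (H := Subgroup.centralizer ((P : Subgroup Spor.Co1) : Set Spor.Co1))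
      (K := Subgroup.normalizer ((P : Subgroup Spor.Co1) : Set Spor.Co1)) (Subgroup.centralizer_le_normalizer _) ?_ he
      ?_ ?_ ?_ ?_
    · infer_instance
    · intro g hg
      rw [hCx, Subgroup.mem_centralizer_singleton_iff] at hg
      rw [hg, mul_inv_cancel_right]
    · intro g hg
      refine SmallSimple.ThetaOrtho.mem_normalizer_of_conj hP hxmem (P.inv_mem hxmem) (inv_ne_one.2 hx1) hg
    · intro g hg
      rw [hCx, Subgroup.mem_centralizer_singleton_iff]
      have h3 : g * (g * x * g⁻¹) * g⁻¹ = x := by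
        calc g * (g * x * g⁻¹) * g⁻¹ = g * x⁻¹ * g⁻¹ := by rw [hg]
          _ = (g * x * g⁻¹)⁻¹ := by group
          _ = x := by rw [hg, inv_inv]
      have h5 : g * g * x * (g * g)⁻¹ = x := by
        calc g * g * x * (g * g)⁻¹ = g * (g * x * g⁻¹) * g⁻¹ := by group
          _ = x := h3
      exact mul_inv_eq_iff_eq_mul.1 h5
    · intro h
      have h3 : x ^ 2 = 1 := by
        rw [pow_two]
        nth_rewrite 2 [h]
        exact mul_inv_cancel x
      have h4 := orderOf_dvd_of_pow_eq_one h3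
      rw [hx] at h4
      exact absurd h4 (by norm_num)
  have h4 := fourth_nonreal hP hCP he hxmem hx1 hnr
  have hvan : ∀ χ : IrrCharacter Spor.Co1, 23 ∣ charDegree (χ : Spor.Co1 → ℂ) → (χ : Spor.Co1 → ℂ) x = 0 := by
    intro χ h5
    exact Cfsg.Agent.H511.Ore.vanish_of_dvd (p := 23) (n := 1) (by norm_num)
      (by rw [Cfsg.Agent.H133.Ore.Co1.card]; norm_num) (by rw [Cfsg.Agent.H133.Ore.Co1.card]; norm_num)
      (by rwa [pow_one]) (by rw [hx])
  have hinv : ∀ χ : IrrCharacter Spor.Co1, ‖(χ : Spor.Co1 → ℂ) x⁻¹‖ = ‖(χ : Spor.Co1 → ℂ) x‖ := fun χ => by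
    rw [isCharacter_apply_inv (isIrr_isCharacter χ.2), Complex.norm_conj]
  have hb : (Nat.card (Subgroup.centralizer ({g} : Set Spor.Co1)) : ℝ) * 82 < ((1782 : ℕ) : ℝ) ^ 2 := by
    have h5 : (Nat.card (Subgroup.centralizer ({g} : Set Spor.Co1)) : ℝ) ≤ 38725 := by exact_mod_cast h1
    norm_num
    linarith
  obtain ⟨a, b, hab⟩ := Cfsg.Agent.H511.Ore.exists_conj_of_sum (x := x) (y := x⁻¹) (g := g) (d := 1782) (S := 82)
    (le_trans (le_of_eq (Finset.sum_congr rfl fun χ _ => by rw [hinv χ]; ring)) h4)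
    (fun χ h5 h6 _ => degOff χ h5 fun h7 => h6 (hvan χ h7)) hb (by norm_num)
  exact ⟨x, a, b, hx, hab⟩

/-- products of two elements of order 23 -/
theorem prd_two {g : Spor.Co1} (hg : Nat.card (Subgroup.centralizer ({g} : Set Spor.Co1)) ≤ 38726) :
    ∃ a b : Spor.Co1, orderOf a = 23 ∧ orderOf b = 23 ∧ g = a * b := by
  obtain ⟨x, a, b, hx, h⟩ := prd hg
  refine ⟨_, _, ?_, ?_, h.symm⟩
  · rw [← hx]
    exact orderOf_injective (MulAut.conj a).toMonoidHom (MulAut.conj a).injective x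
  · rw [← hx, ← orderOf_inv x]
    exact orderOf_injective (MulAut.conj b).toMonoidHom (MulAut.conj b).injective x⁻¹

theorem pr_small {n : ℕ} (hn : Nat.Coprime 23 n) {g : Spor.Co1}
    (hg : Nat.card (Subgroup.centralizer ({g} : Set Spor.Co1)) ≤ 38726) : Pr n g := by
  obtain ⟨a, b, ha, hb, h⟩ := prd_two hg
  exact ⟨a, b, h, by rw [ha]; exact hn, by rw [hb]; exact hn⟩

end Cfsg.Agent.H334.Pw.CoOne
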