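import Cfsg.Agent.LThreeCo1.FourCo1
import Cfsg.Agent.LThreeCo1.Ranks
import Cfsg.Agent.H630.Ore.Co1.InA

/-!
# `Co1`: elements of order 3 with 1 or `2^6` fixed points on `Λ / 2 Λ` commute with an involution of class 2A (helper334)
-/

set_option autoImplicit false
set_option maxRecDepth 20000

namespace Cfsg.Agent.H334.Pw.CoOne

open Cfsg Subgroup
open Cfsg.Agent.SporadicA Cfsg.Agent.SporadicA.Co0Mono
open Cfsg.Spor (Co1)
open Cfsg.Agent.H630.Ore.Co1 (InA IsA)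
open Cfsg.Agent.LThreeMB (fr fr_conj)
open Cfsg.Agent.LThreeCo1.FourCo1 (zz X cw wt_cw four)
open Cfsg.Agent.LThreeCo1.Class (c0 c6)
open Cfsg.Agent.LThreeCo1.Ranks (conj_rep uniq0 uniq6)

theorem isA_zz : IsA zz := ⟨cw, wt_cw, IsConj.refl _⟩

theorem inA_of_zz {g : Co1} (h : g * zz = zz * g) : InA g := ⟨zz, isA_zz, h⟩

theorem e_eq : ∀ i : Fin 4, Cfsg.Agent.LThreeCo1.FourCo1.X i = (QuotientGroup.mk (Cfsg.Agent.LThreeCo1.Rel.e (i.val + 1)) : Co1)
  | 0 => rfl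
  | 1 => rfl
  | 2 => rfl
  | 3 => rfl

theorem comm_c0 : (QuotientGroup.mk c0 : Co1) * zz = zz * QuotientGroup.mk c0 := by
  rw [Cfsg.Agent.LThreeCo1.Ranks.c0_eq]
  have h := four.xz 0
  rw [e_eq 0] at h
  exact h

theorem wd79 : Cfsg.Agent.LThreeCo1.Rel.wd 79 = [1, 2, 2, 3, 3, 4, 4] := by decide +kernel

theorem comm_c6 : (QuotientGroup.mk c6 : Co1) * zz = zz * QuotientGroup.mk c6 := by
  have hx : ∀ i : Fin 4, Commute (QuotientGroup.mk (Cfsg.Agent.LThreeCo1.Rel.e (i.val + 1)) : Co1) zz := fun i => by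
    have h := four.xz i
    rw [e_eq i] at h
    exact h
  have h1 := Cfsg.Agent.LThreeCo1.Class.w79
  rw [wd79] at h1
  rw [← h1]
  simp only [List.map_cons, List.map_nil, List.prod_cons, List.prod_nil, QuotientGroup.mk_mul, QuotientGroup.mk_one]
  have h : Commute ((QuotientGroup.mk (Cfsg.Agent.LThreeCo1.Rel.e 1) : Co1) * (QuotientGroup.mk (Cfsg.Agent.LThreeCo1.Rel.e 2) *
      (QuotientGroup.mk (Cfsg.Agent.LThreeCo1.Rel.e 2) * (QuotientGroup.mk (Cfsg.Agent.LThreeCo1.Rel.e 3) *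
      (QuotientGroup.mk (Cfsg.Agent.LThreeCo1.Rel.e 3) * (QuotientGroup.mk (Cfsg.Agent.LThreeCo1.Rel.e 4) *
      (QuotientGroup.mk (Cfsg.Agent.LThreeCo1.Rel.e 4) * 1))))))) zz :=
    (hx 0).mul_left ((hx 1).mul_left ((hx 1).mul_left ((hx 2).mul_left ((hx 2).mul_left ((hx 3).mul_left
      ((hx 3).mul_left (Commute.one_left _)))))))
  exact h

theorem inA_of_rep {s : Co1} {c : Co0} (h : ∃ g : Co1, g * s * g⁻¹ = QuotientGroup.mk c)
    (hc : (QuotientGroup.mk c : Co1) * zz = zz * QuotientGroup.mk c) : InA s := by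
  obtain ⟨g, hg⟩ := h
  apply InA.of_conj (k := g)
  rw [hg]
  exact inA_of_zz hc

/-- **elements of order 3 of ranks `0` and `6`** -/
theorem inA_three {s : Co1} (hs : orderOf s = 3) (h : fr s = 1 ∨ fr s = 2 ^ 6) : InA s := by
  rcases h with h | h
  · exact inA_of_rep (conj_rep uniq0 hs h) comm_c0
  · exact inA_of_rep (conj_rep uniq6 hs h) comm_c6

end Cfsg.Agent.H334.Pw.CoOne
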