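import Cfsg.Agent.H334.Pw.CoOneA
import Cfsg.Agent.H334.Pw.CoOneThree
import Cfsg.Agent.H334.Pw.CoOneSieve
import Cfsg.Agent.H630.Ore.Co1.Frame
import Cfsg.Agent.H854.Ore.Co1Three
import Cfsg.Agent.H8.Ore.CoOneB
import Cfsg.Agent.H518.Ore.CoOneD
import Cfsg.Agent.H868.Ore.CoOne

/-!
# `Co1`: every element is a product of two elements of order prime to 6 (helper334, S2465)
-/

set_option autoImplicit false

open Subgroup

namespace Cfsg.Agent.H334.Pw.CoOne

open Cfsg Cfsg.Agent.KFacts.Co1D4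
open Cfsg.Agent.H630.Ore.Co1
open Cfsg.Agent.LThreeMB (fr)
open Cfsg.Agent.H78.Pw
open Cfsg.Agent.H854.Ore.CoOne (two_pr pr_dodecad three_pr)
open Cfsg.Spor (Co1)

theorem pr_inA {g : Co1} (h : InA g) : Pr 6 g := by
  rcases inA_cases h with h | h
  · exact h.pr (by norm_num)
  · exact two_pr g h

theorem pr_isD {g u : Co1} (h : IsD u) (hg : g * u = u * g) : Pr 6 g := by
  obtain ⟨d, hd, hu⟩ := h
  exact pr_dodecad hd hu.symm hg

/-- an involution commuting with `g` which is not of class 2B -/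
theorem pr_of_inv {g : Co1} (h : ∃ t : Co1, orderOf t = 2 ∧ t * g = g * t ∧ ¬ IsConj TwoB.w t) : Pr 6 g := by
  obtain ⟨t, ht, htg, hn⟩ := h
  have htt : t * t = 1 := by rw [← pow_two, ← ht, pow_orderOf_eq_one]
  have ht1 : t ≠ 1 := by
    rintro rfl
    rw [orderOf_one] at ht
    omega
  rcases inv_cases htt ht1 with h | h | h
  · exact pr_inA ⟨t, h, htg.symm⟩
  · exact pr_isD h htg.symm
  · exact absurd h hn

theorem pr_three {s : Co1} (hs : orderOf s = 3) : Pr 6 s := by
  rcases LThreeCo1.Ranks.ranks s hs with h | h | h | h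
  · exact pr_inA (inA_three hs (Or.inl h))
  · exact pr_inA (inA_three hs (Or.inr h))
  · exact three_pr hs (Or.inl h)
  · exact three_pr hs (Or.inr h)

theorem inputs : InputsP (Pr 6 : Co1 → Prop) where
  inA _ h _ := pr_inA h
  isD _ _ h hg := pr_isD h hg
  two g h := two_pr g h
  prime _ h := h.elim pr_three fun h => Pr.of_coprime (by rw [h]; norm_num)
  fiveA _ _ hy hf hyg hg := pr_small (by norm_num) (H8.Ore.CoOneB.bound_5A hy hf hyg hg)
  fiveB _ _ hy hf hyg _ := pr_small (by norm_num) (bd_of_le hyg (H8.Ore.CoOneB.bound_prime (Or.inl ⟨hy, hf⟩)))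
  fiveC _ _ hy hf hyg _ := (H868.Ore.Co1.fiveC hy hf hyg).elim pr_of_inv fun h =>
    pr_small (by norm_num) (le_trans h (by norm_num))
  big _ _ h hyg := pr_small (by norm_num) (bd_of_le hyg (H8.Ore.CoOneB.bound_prime (Or.inr h)))
  nine _ h9 := (H868.Ore.Co1.nine h9).elim pr_of_inv fun h => pr_small (by norm_num) (le_trans h (by norm_num))
  eight _ _ hs hf hts ht1 ht := by
    obtain ⟨k, hk⟩ := ht
    exact pr_small (by norm_num) (le_trans (H518.Ore.CoOneD.card_le hs hf hk ht1 hts) (by norm_num))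

/-- **`Co1`: every element is a product of two elements of order prime to 6** -/
theorem all_six : All 6 Co1 := inputs.all

theorem all_six' {S : Type*} [Group S] (h : Spor.IsoCo1 S) : All 6 S := by
  obtain ⟨e⟩ := h
  exact all_six.congr e.symm

end Cfsg.Agent.H334.Pw.CoOne
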