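import Cfsg.Agent.H334.O8.CentZ
import Cfsg.Agent.H6.ORE.CoOne
import Cfsg.Agent.H630.Ore.Co1.InA
import Cfsg.Agent.H78.Pw.Base

/-!
# `Co1`: elements commuting with an involution of class 2A are products of two elements of order five (helper334, S2465)
-/

set_option autoImplicit false

namespace Cfsg.Agent.H334.Pw.CoOne

open Cfsg Subgroup
open Cfsg.Spor (Co1)
open Cfsg.Agent.H630.Ore.Co1 (InA IsA)
open Cfsg.Agent.H6.ORE.CoOne (QM zM isConj_z)
open Cfsg.Agent.CoOneType.ClosingFacts (isConj_octad)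
open Cfsg.Agent.H78.Pw

/-- a product of two elements with fifth power one -/
def P5 {G : Type*} [Group G] (g : G) : Prop := ∃ a b : G, g = a * b ∧ a ^ 5 = 1 ∧ b ^ 5 = 1

theorem P5.of_conj {G : Type*} [Group G] {g k : G} (h : P5 (k * g * k⁻¹)) : P5 g := by
  obtain ⟨a, b, e, ha, hb⟩ := h
  refine ⟨k⁻¹ * a * k⁻¹⁻¹, k⁻¹ * b * k⁻¹⁻¹, ?_, ?_, ?_⟩
  · calc g = k⁻¹ * (k * g * k⁻¹) * k := by group
      _ = _ := by rw [e]; group
  · rw [conj_pow, ha, mul_one, mul_inv_cancel]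
  · rw [conj_pow, hb, mul_one, mul_inv_cancel]

theorem P5.pr {G : Type*} [Group G] {g : G} (h : P5 g) {n : ℕ} (hn : Nat.Coprime 5 n) : Pr n g := by
  obtain ⟨a, b, e, ha, hb⟩ := h
  exact ⟨a, b, e, Nat.Coprime.of_dvd_left (orderOf_dvd_of_pow_eq_one ha) hn,
    Nat.Coprime.of_dvd_left (orderOf_dvd_of_pow_eq_one hb) hn⟩

/-- **elements of `C(zM)`** -/
theorem cent_cases {g : Co1} (hg : g * zM = zM * g) : P5 g ∨ ∃ i : ℕ, g ^ 2 ^ i = 1 := by
  have hfin : Finite Co1 := H812.CoFiveData.finite_co1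
  by_cases hQ : g ∈ QM
  · right
    have hpg : IsPGroup 2 QM := Cfsg.Agent.LargeExtra.Base.isPGroup H813.CoLarge.large
    obtain ⟨k, hk⟩ := hpg ⟨g, hQ⟩
    exact ⟨k, congrArg Subtype.val hk⟩
  · left
    obtain ⟨L, hL⟩ := H813.CoLarge.exists_L
    obtain ⟨a, b, e, ha, hb, -⟩ := Cfsg.Agent.H334.O8.prod_five H813.CoLarge.large L hL H813.CoLarge.perfect
      H813.CoLarge.card_Q' H813.CoLarge.card_le hg hQ
    exact ⟨a, b, e, congrArg Subtype.val ha, congrArg Subtype.val hb⟩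

/-- **elements commuting with an involution of class 2A** -/
theorem inA_cases {g : Co1} (h : InA g) : P5 g ∨ ∃ i : ℕ, g ^ 2 ^ i = 1 := by
  obtain ⟨u, ⟨c, hc, hu⟩, hg⟩ := h
  have h2 : IsConj u zM := hu.symm.trans ((isConj_octad hc H812.CoFiveData.wt_c0).trans isConj_z)
  obtain ⟨k, hk⟩ := isConj_iff.1 h2
  have h3 : (k * g * k⁻¹) * zM = zM * (k * g * k⁻¹) := by
    rw [← hk]
    calc k * g * k⁻¹ * (k * u * k⁻¹) = k * (g * u) * k⁻¹ := by group
      _ = k * u * k⁻¹ * (k * g * k⁻¹) := by rw [hg]; group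
  rcases cent_cases h3 with h4 | ⟨i, hi⟩
  · exact Or.inl h4.of_conj
  · right
    refine ⟨i, ?_⟩
    rw [conj_pow] at hi
    have h5 := congrArg (fun x => k⁻¹ * x * k) hi
    simpa [mul_assoc] using h5

end Cfsg.Agent.H334.Pw.CoOne
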