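import Cfsg.Agent.H455.OreM.Deg19
import Cfsg.Agent.H606.OreM.Ok
import Cfsg.Agent.H65.Ore.Sieve
import Cfsg.Agent.H78.Pw.Base

/-!
# The sieve of the Monster in product form, up to the degree bound (helper334; after helper606, helper65)
-/

set_option autoImplicit false

open Cfsg Subgroup

namespace Cfsg.Agent.H334.Pw.Mon

open Cfsg.Agent.H65.Ore
open Cfsg.Agent.BpSpor.MBigModel
open Cfsg.Agent.H606.OreM (not_comm_MG finMG simpleMG)

/-- the bound for the degrees of the characters of degree prime to 59 -/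
def DegGe : Prop := ∀ χ : IrrCharacter MG, (χ : MG → ℂ) ≠ 1 → ¬ 59 ∣ charDegree (χ : MG → ℂ) →
  4962352590 ≤ charDegree (χ : MG → ℂ)

theorem sc59 (c59 : ∀ x : MG, orderOf x = 59 → Nat.card (centralizer ({x} : Set MG)) = 59) : SC MG 59 479 := by
  obtain ⟨x, hx⟩ := Cfsg.Agent.H455.OreM.Deg19.exists_order (r := 59) (by norm_num) (by norm_num)
  exact sc_of not_comm_MG (by norm_num) card_M hx (c59 x hx) 29 2 479 (by decide +kernel)

/-- **T1 for the Monster, product form** -/
theorem prd (c59 : ∀ x : MG, orderOf x = 59 → Nat.card (centralizer ({x} : Set MG)) = 59) (hd : DegGe) {x y : MG}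
    (hx : orderOf x = 59) (hy : orderOf y = 59) {g : MG}
    (hg : Nat.card (centralizer ({g} : Set MG)) ≤ 26489012826931200) : Prd x y g :=
  (sc59 c59).prd hx hy hd hg (by norm_num)

/-- products of two elements of order 59 -/
theorem prd_two (c59 : ∀ x : MG, orderOf x = 59 → Nat.card (centralizer ({x} : Set MG)) = 59) (hd : DegGe) {g : MG}
    (hg : Nat.card (centralizer ({g} : Set MG)) ≤ 26489012826931200) :
    ∃ x y : MG, g = x * y ∧ orderOf x = 59 ∧ orderOf y = 59 := by
  obtain ⟨x, hx⟩ := Cfsg.Agent.H455.OreM.Deg19.exists_order (r := 59) (by norm_num) (by norm_num)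
  obtain ⟨a, b, h⟩ := prd c59 hd hx hx hg
  refine ⟨_, _, h, ?_, ?_⟩
  · rw [← hx]
    exact orderOf_injective (MulAut.conj a).toMonoidHom (MulAut.conj a).injective x
  · rw [← hx]
    exact orderOf_injective (MulAut.conj b).toMonoidHom (MulAut.conj b).injective x

end Cfsg.Agent.H334.Pw.Mon
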